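import Cfsg.Agent.HigmanFpf.Action

/-!
Modules for the two by two matrix ring over a field: decomposition into natural modules, the vanishing
of symmetric equivariant pairings and of squaring maps in characteristic two.
-/

set_option autoImplicit false
set_option linter.unusedSectionVars false

namespace Cfsg.Lib.HigmanFpf

open Matrix
open scoped MatrixGroups

variable {K : Type*} [Field K]

local notation "M2" => Matrix (Fin 2) (Fin 2) K

/-- The matrix with first column `x`. -/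
def col (x : Fin 2 → K) : Matrix (Fin 2) (Fin 2) K := !![x 0, 0; x 1, 0]

theorem mul_col (m : Matrix (Fin 2) (Fin 2) K) (x : Fin 2 → K) : m * col x = col (m.mulVec x) := by
  ext i j; fin_cases i <;> fin_cases j <;> simp [col, Matrix.mul_apply, Matrix.mulVec, dotProduct, Fin.sum_univ_two]

section Decomp

variable {V : Type*} [AddCommGroup V] [Finite V]

theorem exists_decomp (Φ : Matrix (Fin 2) (Fin 2) K →+* AddMonoid.End V) :
    ∃ (k : ℕ) (ψ : (Fin k → Fin 2 → K) ≃+ V), ∀ (m : Matrix (Fin 2) (Fin 2) K) (f : Fin k → Fin 2 → K),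
      ψ (fun i => m.mulVec (f i)) = Φ m (ψ f) := by
  classical
  letI : Module K V := Module.compHom V (Φ.comp (Matrix.scalar (Fin 2)))
  haveI : Module.Finite K V := Module.Finite.of_finite
  have hsmul : ∀ (c : K) (v : V), c • v = Φ (Matrix.scalar (Fin 2) c) v := fun c v => rfl
  have hact : ∀ (x y : Matrix (Fin 2) (Fin 2) K) (v : V), Φ x (Φ y v) = Φ (x * y) v := fun x y v => by
    rw [map_mul]; rfl
  have hlin : ∀ (m : Matrix (Fin 2) (Fin 2) K) (c : K) (v : V), Φ m (c • v) = c • Φ m v := fun m c v => by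
    rw [hsmul, hsmul, hact, hact, (Matrix.scalar_commute c (Commute.all c) m).eq]
  set E11 : Matrix (Fin 2) (Fin 2) K := !![1, 0; 0, 0] with hE11
  set E12 : Matrix (Fin 2) (Fin 2) K := !![0, 1; 0, 0] with hE12
  set E21 : Matrix (Fin 2) (Fin 2) K := !![0, 0; 1, 0] with hE21
  let A : Submodule K V :=
    { carrier := {v | Φ E11 v = v}
      add_mem' := fun {a b} (ha : Φ E11 a = a) (hb : Φ E11 b = b) => by
        show Φ E11 (a + b) = a + b
        rw [map_add, ha, hb]
      zero_mem' := map_zero (Φ E11)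
      smul_mem' := fun c v (hv : Φ E11 v = v) => by
        show Φ E11 (c • v) = c • v
        rw [hlin, hv] }
  let b := Module.finBasis K A
  set k := Module.finrank K A
  have hb : ∀ i, Φ E11 (b i : V) = b i := fun i => (b i).2
  let ψ0 : (Fin k → Fin 2 → K) →+ V :=
    { toFun := fun f => ∑ i, Φ (col (f i)) (b i : V)
      map_zero' := by
        refine Finset.sum_eq_zero fun i _ => ?_
        rw [show col ((0 : Fin k → Fin 2 → K) i) = (0 : Matrix (Fin 2) (Fin 2) K) by
          ext x y; fin_cases x <;> fin_cases y <;> simp [col], map_zero]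
        rfl
      map_add' := fun f g => by
        rw [← Finset.sum_add_distrib]
        refine Finset.sum_congr rfl fun i _ => ?_
        rw [show col ((f + g) i) = col (f i) + col (g i) by
          ext x y; fin_cases x <;> fin_cases y <;> simp [col], map_add]
        rfl }
  have hψ : ∀ f, ψ0 f = ∑ i, Φ (col (f i)) (b i : V) := fun f => rfl
  have h11 : ∀ f, Φ E11 (ψ0 f) = ((∑ i, f i 0 • b i : A) : V) := fun f => by
    rw [hψ, map_sum, Submodule.coe_sum]
    refine Finset.sum_congr rfl fun i _ => ?_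
    rw [hact, Submodule.coe_smul, ← hb i, hsmul, hact, hact]
    congr 2
    ext x y; fin_cases x <;> fin_cases y <;> simp [hE11, col, Matrix.mul_apply, Fin.sum_univ_two]
  have h12 : ∀ f, Φ E12 (ψ0 f) = ((∑ i, f i 1 • b i : A) : V) := fun f => by
    rw [hψ, map_sum, Submodule.coe_sum]
    refine Finset.sum_congr rfl fun i _ => ?_
    rw [hact, Submodule.coe_smul, ← hb i, hsmul, hact, hact]
    congr 2
    ext x y; fin_cases x <;> fin_cases y <;> simp [hE11, hE12, col, Matrix.mul_apply, Fin.sum_univ_two]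
  have hinj : Function.Injective ψ0 := by
    rw [injective_iff_map_eq_zero]
    intro f hf
    have h0 : ∑ i, f i 0 • b i = 0 := Subtype.ext ((h11 f).symm.trans (by rw [hf, map_zero]; rfl))
    have h1 : ∑ i, f i 1 • b i = 0 := Subtype.ext ((h12 f).symm.trans (by rw [hf, map_zero]; rfl))
    funext i j
    fin_cases j
    · exact Fintype.linearIndependent_iff.1 b.linearIndependent _ h0 i
    · exact Fintype.linearIndependent_iff.1 b.linearIndependent _ h1 i
  have hsurj : Function.Surjective ψ0 := by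
    intro v
    have m1 : Φ E11 v ∈ A := show Φ E11 (Φ E11 v) = Φ E11 v by
      rw [hact]; congr 2; ext x y; fin_cases x <;> fin_cases y <;> simp [hE11, Matrix.mul_apply, Fin.sum_univ_two]
    have m2 : Φ E12 v ∈ A := show Φ E11 (Φ E12 v) = Φ E12 v by
      rw [hact]; congr 2; ext x y; fin_cases x <;> fin_cases y <;> simp [hE11, hE12, Matrix.mul_apply, Fin.sum_univ_two]
    refine ⟨fun i => ![b.repr ⟨_, m1⟩ i, b.repr ⟨_, m2⟩ i], ?_⟩
    have e1 := congrArg (Subtype.val : A → V) (b.sum_repr ⟨_, m1⟩)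
    have e2 := congrArg (Subtype.val : A → V) (b.sum_repr ⟨_, m2⟩)
    rw [Submodule.coe_sum] at e1 e2
    calc ψ0 _ = ∑ i, ((b.repr ⟨_, m1⟩ i • b i : A) : V) + Φ E21 (∑ i, ((b.repr ⟨_, m2⟩ i • b i : A) : V)) := by
          rw [map_sum, ← Finset.sum_add_distrib, hψ]
          refine Finset.sum_congr rfl fun i _ => ?_
          rw [Submodule.coe_smul, Submodule.coe_smul, ← hb i, hsmul, hsmul, hact, hact, hact, hact]
          show _ = (Φ _ + Φ _ : AddMonoid.End V) (b i : V)
          rw [← map_add]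
          congr 2
          ext x y; fin_cases x <;> fin_cases y <;> simp [hE11, hE21, col, Matrix.mul_apply, Fin.sum_univ_two]
      _ = Φ E11 v + Φ E21 (Φ E12 v) := by rw [e1, e2]
      _ = Φ (E11 + E21 * E12) v := by rw [hact, map_add]; rfl
      _ = v := by
        rw [show E11 + E21 * E12 = 1 by
          ext x y; fin_cases x <;> fin_cases y <;> simp [hE11, hE12, hE21, Matrix.mul_apply, Fin.sum_univ_two], map_one]
        rfl
  refine ⟨k, AddEquiv.ofBijective ψ0 ⟨hinj, hsurj⟩, fun m f => ?_⟩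
  show ψ0 _ = Φ m (ψ0 f)
  rw [hψ, hψ, map_sum]
  refine Finset.sum_congr rfl fun i _ => ?_
  rw [hact, mul_col]

end Decomp

variable [CharP K 2]

theorem exists_ne (hK : 2 < Nat.card K) : ∃ t : K, t ≠ 0 ∧ t ≠ 1 := by
  by_contra h
  push Not at h
  haveI : Finite K := Nat.finite_of_card_ne_zero (by omega)
  have h1 : Nat.card K ≤ Nat.card (Fin 2) := Nat.card_le_card_of_surjective
    (fun i : Fin 2 => if i = 0 then (0 : K) else 1) fun x => by
      by_cases hx : x = 0
      · exact ⟨0, by simp [hx]⟩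
      · exact ⟨1, by simp [h x hx]⟩
  simp at h1
  omega

section Apply

variable {V : Type*} [AddCommGroup V] (Φ : Matrix (Fin 2) (Fin 2) K →+* AddMonoid.End V)

theorem act_mul (x y : Matrix (Fin 2) (Fin 2) K) (v : V) : Φ x (Φ y v) = Φ (x * y) v := by
  rw [map_mul]; rfl

theorem act_add (x y : Matrix (Fin 2) (Fin 2) K) (v : V) : Φ (x + y) v = Φ x v + Φ y v := by
  rw [map_add]; rfl

theorem act_one (v : V) : Φ 1 v = v := by
  rw [map_one]; rfl

theorem act_zero (v : V) : Φ 0 v = 0 := by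
  rw [map_zero]; rfl

theorem split (v : V) : ∃ a b : V, Φ !![1, 0; 0, 0] a = a ∧ Φ !![1, 0; 0, 0] b = b ∧ v = a + Φ !![0, 0; 1, 0] b := by
  refine ⟨Φ !![1, 0; 0, 0] v, Φ !![0, 1; 0, 0] v, ?_, ?_, ?_⟩
  · rw [act_mul]; congr 2; ext i j; fin_cases i <;> fin_cases j <;> simp
  · rw [act_mul]; congr 2; ext i j; fin_cases i <;> fin_cases j <;> simp
  · rw [act_mul, ← act_add]
    conv_lhs => rw [← act_one Φ v]
    congr 2
    ext i j; fin_cases i <;> fin_cases j <;> simp

/-- A vector killed by the nilpotent unit lies in the first eigenspace. -/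
theorem top_of_killed {v : V} (h : Φ !![0, 1; 0, 0] v = 0) : Φ !![1, 0; 0, 0] v = v := by
  have e : (1 : Matrix (Fin 2) (Fin 2) K) = !![1, 0; 0, 0] + !![0, 0; 1, 0] * !![0, 1; 0, 0] := by
    ext i j; fin_cases i <;> fin_cases j <;> simp
  conv_rhs => rw [← act_one Φ v, e, act_add, ← act_mul, h, map_zero, add_zero]

end Apply

variable {V W : Type*} [AddCommGroup V] [AddCommGroup W]
  (Φ : Matrix (Fin 2) (Fin 2) K →+* AddMonoid.End V) (Ψ : Matrix (Fin 2) (Fin 2) K →+* AddMonoid.End W)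

/-- Symmetric equivariant pairings vanish. -/
theorem pairing_eq_zero (hK : 2 < Nat.card K) (hW : ∀ w : W, w + w = 0) (β : V → V → W)
    (hadd : ∀ x y z, β x (y + z) = β x y + β x z) (hsym : ∀ x y, β x y = β y x)
    (heq : ∀ (g : SL(2, K)) x y, β (Φ (g : M2) x) (Φ (g : M2) y) = Ψ (g : M2) (β x y)) :
    ∀ x y, β x y = 0 := by
  obtain ⟨t, ht0, ht1⟩ := exists_ne hK
  have hcancel : ∀ {a b : W}, a + b = 0 → a = b := fun {a b} h => by
    calc a = a + (b + b) := by rw [hW, add_zero]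
      _ = b := by rw [← add_assoc, h, zero_add]
  -- translation on the bottom space
  have hT : ∀ (s : K) a b, Φ !![1, 0; 0, 0] a = a → Φ !![1, 0; 0, 0] b = b →
      β a (Φ !![s, 0; 0, 0] b) = Ψ !![0, s; 0, 0] (β a (Φ !![0, 0; 1, 0] b)) := by
    intro s a b ha hb
    have h := heq (uU s) a (Φ !![0, 0; 1, 0] b)
    have e1 : Φ (uU s : M2) a = a := by
      conv_lhs => rw [← ha]
      rw [act_mul]
      conv_rhs => rw [← ha]
      congr 2; ext i j; fin_cases i <;> fin_cases j <;> simp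
    have e2 : Φ (uU s : M2) (Φ !![0, 0; 1, 0] b) = Φ !![0, 0; 1, 0] b + Φ !![s, 0; 0, 0] b := by
      rw [act_mul, ← act_add]; congr 2; ext i j; fin_cases i <;> fin_cases j <;> simp
    have e3 : (uU s : M2) = 1 + !![0, s; 0, 0] := by ext i j; fin_cases i <;> fin_cases j <;> simp
    rw [e1, e2, hadd, e3, act_add Ψ, act_one Ψ] at h
    exact add_left_cancel h
  have hAA : ∀ a b, Φ !![1, 0; 0, 0] a = a → Φ !![1, 0; 0, 0] b = b → β a b = 0 := by
    intro a b ha hb
    have hs : ∀ (s : K) a b, Φ !![1, 0; 0, 0] a = a → Φ !![1, 0; 0, 0] b = b →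
        β a (Φ !![s, 0; 0, 0] b) = Ψ !![s, 0; 0, s] (β a b) := by
      intro s a b ha hb
      have h1 := hT 1 a b ha hb
      rw [hb] at h1
      rw [hT s a b ha hb, h1, act_mul]
      congr 2; ext i j; fin_cases i <;> fin_cases j <;> simp
    have hta : Φ !![1, 0; 0, 0] (Φ !![t, 0; 0, 0] a) = Φ !![t, 0; 0, 0] a := by
      rw [act_mul]; congr 2; ext i j; fin_cases i <;> fin_cases j <;> simp
    have h1 : β (Φ !![t, 0; 0, 0] a) (Φ !![t, 0; 0, 0] b) = Ψ !![t * t, 0; 0, t * t] (β a b) := by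
      rw [hs t _ b hta hb, hsym _ b, hs t b a hb ha, hsym b a, act_mul]
      congr 2; ext i j; fin_cases i <;> fin_cases j <;> simp
    let h : SL(2, K) := ⟨!![t, 0; 0, t⁻¹], by simp [Matrix.det_fin_two, ht0]⟩
    have e1 : ∀ c, Φ !![1, 0; 0, 0] c = c → Φ (h : M2) c = Φ !![t, 0; 0, 0] c := fun c hc => by
      conv_lhs => rw [← hc]
      rw [act_mul]; congr 2; ext i j; fin_cases i <;> fin_cases j <;> simp [h]
    have h2 := heq h a b
    rw [e1 a ha, e1 b hb, h1] at h2
    have hab : β a b = Ψ !![0, 1; 0, 0] (β a (Φ !![0, 0; 1, 0] b)) := by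
      have := hT 1 a b ha hb; rwa [hb] at this
    have e2 : Ψ (h : M2) (β a b) = Ψ !![t, 0; 0, t] (β a b) := by
      rw [hab, act_mul, act_mul]; congr 2; ext i j; fin_cases i <;> fin_cases j <;> simp [h]
    rw [e2] at h2
    have h3 : Ψ (!![t * t, 0; 0, t * t] + !![t, 0; 0, t]) (β a b) = 0 := by rw [act_add, h2, hW]
    have hne : t * t + t ≠ 0 := by
      rw [show t * t + t = t * (t + 1) by ring]
      exact mul_ne_zero ht0 fun e => ht1 (CharTwo.add_eq_zero.1 e)
    have h4 := congrArg (Ψ !![(t * t + t)⁻¹, 0; 0, (t * t + t)⁻¹]) h3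
    rw [act_mul, map_zero] at h4
    rw [← act_one Ψ (β a b), ← h4]
    congr 2; ext i j; fin_cases i <;> fin_cases j <;> simp [hne, inv_mul_cancel₀, ← mul_add]
  have hAB : ∀ a b, Φ !![1, 0; 0, 0] a = a → Φ !![1, 0; 0, 0] b = b → β a (Φ !![0, 0; 1, 0] b) = 0 := by
    intro a b ha hb
    have hk : ∀ a b, Φ !![1, 0; 0, 0] a = a → Φ !![1, 0; 0, 0] b = b →
        Ψ !![0, 1; 0, 0] (β a (Φ !![0, 0; 1, 0] b)) = 0 := fun a b ha hb => by
      rw [← hT 1 a b ha hb, hb]; exact hAA a b ha hb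
    have e1 : Φ (wE : SL(2, K)) a = Φ !![0, 0; 1, 0] a := by
      conv_lhs => rw [← ha]
      rw [act_mul]
      conv_rhs => rw [← ha, act_mul]
      congr 2; ext i j; fin_cases i <;> fin_cases j <;> simp [coe_wE]
    have e2 : Φ (wE : SL(2, K)) (Φ !![0, 0; 1, 0] b) = b := by
      rw [act_mul]
      conv_rhs => rw [← hb]
      congr 2; ext i j; fin_cases i <;> fin_cases j <;> simp [coe_wE]
    have h := heq wE a (Φ !![0, 0; 1, 0] b)
    rw [e1, e2, hsym] at h
    have h' := hk b a hb ha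
    rw [h, act_mul] at h'
    have e3 : Ψ !![1, 0; 0, 0] (β a (Φ !![0, 0; 1, 0] b)) = 0 := by
      rw [← h']; congr 2; ext i j; fin_cases i <;> fin_cases j <;> simp [coe_wE]
    rw [← top_of_killed Ψ (hk a b ha hb), e3]
  intro x y
  obtain ⟨a, b, ha, hb, rfl⟩ := split Φ x
  obtain ⟨c, d, hc, hd, rfl⟩ := split Φ y
  have hzero : ∀ a b, Φ !![1, 0; 0, 0] a = a → Φ !![1, 0; 0, 0] b = b →
      β (Φ !![0, 0; 1, 0] a) (Φ !![0, 0; 1, 0] b) = 0 := by
    intro a b ha hb
    have e : ∀ c, Φ !![1, 0; 0, 0] c = c → Φ (wE : SL(2, K)) c = Φ !![0, 0; 1, 0] c := fun c hc => by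
      conv_lhs => rw [← hc]
      rw [act_mul]
      conv_rhs => rw [← hc, act_mul]
      congr 2; ext i j; fin_cases i <;> fin_cases j <;> simp [coe_wE]
    rw [← e a ha, ← e b hb, heq, hAA a b ha hb, map_zero]
  rw [hadd, hsym _ c, hadd, hsym _ (Φ !![0, 0; 1, 0] d), hadd, hAA c a hc ha, hAB c b hc hb,
    hsym _ a, hAB a d ha hd, hsym _ (Φ !![0, 0; 1, 0] b), hzero b d hb hd]
  simp

variable [Fintype K]

/-- The squaring map of an abelian extension of one module by another vanishes. -/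
theorem square_eq_zero (hK : 2 < Nat.card K) (hW : ∀ w : W, w + w = 0) (hV : ∀ v : V, v + v = 0)
    {Q : Type*} [AddCommGroup Q] (π : Q →+ V) (hπ : Function.Surjective π) (ι : W →+ Q)
    (hι : Function.Injective ι) (hex : ∀ p, π p = 0 → ∃ w, ι w = p)
    (ρ : SL(2, K) →* AddMonoid.End Q) (hρπ : ∀ g p, π (ρ g p) = Φ (g : M2) (π p))
    (hρι : ∀ g w, ρ g (ι w) = ι (Ψ (g : M2) w))
    (q : V →+ W) (hq : ∀ p, p + p = ι (q (π p))) : ∀ p : Q, p + p = 0 := by
  obtain ⟨t, ht0, ht1⟩ := exists_ne hK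
  have hcancel : ∀ {a b : W}, a + b = 0 → a = b := fun {a b} h => by
    calc a = a + (b + b) := by rw [hW, add_zero]
      _ = b := by rw [← add_assoc, h, zero_add]
  have hqg : ∀ (g : SL(2, K)) v, q (Φ (g : M2) v) = Ψ (g : M2) (q v) := fun g v => by
    obtain ⟨p, rfl⟩ := hπ v
    refine hι ?_
    rw [← hρι, ← hq, ← hρπ, ← hq, map_add]
  have htop : ∀ b, Φ !![1, 0; 0, 0] b = b → Ψ !![0, 1; 0, 0] (q b) = 0 := fun b hb => by
    have e : Φ ((uU (1 : K) : SL(2, K)) : M2) b = b := by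
      conv_lhs => rw [← hb]
      rw [act_mul]
      conv_rhs => rw [← hb]
      congr 2; ext i j; fin_cases i <;> fin_cases j <;> simp
    have h := hqg (uU 1) b
    rw [e, show ((uU 1 : SL(2, K)) : M2) = 1 + !![0, 1; 0, 0] by ext i j; fin_cases i <;> fin_cases j <;> simp,
      act_add, act_one] at h
    exact (add_eq_left.1 h.symm)
  have htq : ∀ (s : K) b, Φ !![1, 0; 0, 0] b = b → q (Φ !![s, 0; 0, s] b) = Ψ !![s, 0; 0, s] (q b) := by
    intro s b hb
    by_cases hs : s = 0
    · subst hs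
      rw [show (!![0, 0; 0, 0] : M2) = 0 by ext i j; fin_cases i <;> fin_cases j <;> simp, act_zero, act_zero, map_zero]
    let h : SL(2, K) := ⟨!![s, 0; 0, s⁻¹], by simp [Matrix.det_fin_two, hs]⟩
    have e1 : Φ (h : M2) b = Φ !![s, 0; 0, s] b := by
      conv_lhs => rw [← hb]
      conv_rhs => rw [← hb]
      rw [act_mul, act_mul]; congr 2; ext i j; fin_cases i <;> fin_cases j <;> simp [h]
    have e2 : Ψ (h : M2) (q b) = Ψ !![s, 0; 0, s] (q b) := by
      have hqb := top_of_killed Ψ (htop b hb)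
      conv_lhs => rw [← hqb]
      conv_rhs => rw [← hqb]
      rw [act_mul, act_mul]; congr 2; ext i j; fin_cases i <;> fin_cases j <;> simp [h]
    rw [← e1, hqg, e2]
  choose lift hlift using hπ
  set u : SL(2, K) := uU 1
  set ut : SL(2, K) := uU t
  let P : V → Q := fun c => lift (Φ !![0, 0; 1, 0] c)
  let S : V → Q := fun c => ρ u (P c) - P c
  let T : V → Q := fun c => ρ ut (P c) - P c
  have hπS : ∀ (s : K) c, Φ !![1, 0; 0, 0] c = c → π (ρ (uU s) (P c) - P c) = Φ !![s, 0; 0, s] c := fun s c hc => by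
    rw [map_sub, hρπ, hlift, act_mul, show ((uU s : SL(2, K)) : M2) * !![0, 0; 1, 0] = !![0, 0; 1, 0] + !![s, 0; 0, 0] by
      ext i j; fin_cases i <;> fin_cases j <;> simp, act_add, add_sub_cancel_left]
    conv_rhs => rw [← hc, act_mul]
    congr 2; ext i j; fin_cases i <;> fin_cases j <;> simp
  have hmem : ∀ c, Φ !![1, 0; 0, 0] c = c → Φ !![1, 0; 0, 0] (Φ !![t, 0; 0, t] c) = Φ !![t, 0; 0, t] c := fun c hc => by
    conv_rhs => rw [← hc]
    rw [act_mul, act_mul]; congr 2; ext i j; fin_cases i <;> fin_cases j <;> simp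
  have hd : ∀ c, ∃ w, Φ !![1, 0; 0, 0] c = c → T c = S (Φ !![t, 0; 0, t] c) + ι w := fun c => by
    by_cases hc : Φ !![1, 0; 0, 0] c = c
    · have h0 : π (T c - S (Φ !![t, 0; 0, t] c)) = 0 := by
        rw [map_sub, hπS t c hc, hπS 1 _ (hmem c hc), act_mul, sub_eq_zero]
        congr 2; ext i j; fin_cases i <;> fin_cases j <;> simp
      obtain ⟨w, hw⟩ := hex _ h0
      exact ⟨w, fun _ => by rw [hw, add_sub_cancel]⟩
    · exact ⟨0, fun h => absurd h hc⟩
  choose d hd using hd
  have hneg : ∀ w, -(ι w) = ι w := fun w => neg_eq_of_add_eq_zero_left (by rw [← map_add, hW, map_zero])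
  -- the action of an involution on its displacements
  have hinv : ∀ (s : K) c, Φ !![1, 0; 0, 0] c = c →
      ρ (uU s) (ρ (uU s) (P c) - P c) - (ρ (uU s) (P c) - P c) = ι (q (Φ !![s, 0; 0, s] c)) := fun s c hc => by
    have e : ρ (uU s) (ρ (uU s) (P c)) = P c := by
      show (ρ (uU s) * ρ (uU s)) (P c) = P c
      rw [← map_mul, uU_sq, map_one]; rfl
    have h4 : ∀ x : Q, -(x + x) = x + x := fun x => by rw [hq, hneg]
    rw [← hπS s c hc, ← hq, map_sub, e, ← h4 (ρ (uU s) (P c) - P c)]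
    abel
  have hut : ∀ w, ρ ut (ι w) - ι w = ι (Ψ !![0, t; 0, 0] w) := fun w => by
    rw [hρι, show ((ut : SL(2, K)) : M2) = 1 + !![0, t; 0, 0] by ext i j; fin_cases i <;> fin_cases j <;> simp [ut],
      act_add, act_one, map_add, add_sub_cancel_left]
  have hu : ∀ w, ρ u (ι w) - ι w = ι (Ψ !![0, 1; 0, 0] w) := fun w => by
    rw [hρι, show ((u : SL(2, K)) : M2) = 1 + !![0, 1; 0, 0] by ext i j; fin_cases i <;> fin_cases j <;> simp [u],
      act_add, act_one, map_add, add_sub_cancel_left]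
  have hmove : ∀ c, Φ !![1, 0; 0, 0] c = c →
      ρ ut (S c) - S c = ι (q (Φ !![t, 0; 0, t] c) + Ψ !![0, 1; 0, 0] (d c)) := by
    intro c hc
    have hc' : ρ ut (S c) - S c = ρ u (T c) - T c := by
      have e : ρ ut (ρ u (P c)) = ρ u (ρ ut (P c)) := by
        show (ρ ut * ρ u) (P c) = (ρ u * ρ ut) (P c)
        rw [← map_mul, ← map_mul]
        simp only [u, ut, uU_mul, add_comm]
      simp only [S, T, map_sub, e]
      abel
    rw [hc', hd c hc, map_add, map_add, ← hu (d c), add_sub_add_comm]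
    congr 1
    have h := hinv 1 _ (hmem c hc)
    rwa [act_mul, show (!![1, 0; 0, 1] : M2) * !![t, 0; 0, t] = !![t, 0; 0, t] by
      ext i j; fin_cases i <;> fin_cases j <;> simp] at h
  obtain ⟨γ, hγ⟩ : ∃ γ : V → W, ∀ c, γ c = Ψ !![0, 1; 0, 0] (d c) := ⟨_, fun c => rfl⟩
  have hrec : ∀ c, Φ !![1, 0; 0, 0] c = c →
      γ (Φ !![t, 0; 0, t] c) = Ψ !![t, 0; 0, t] (γ c) + Ψ !![t * t + t, 0; 0, t * t + t] (q c) := by
    intro c hc
    have h := hinv t c hc
    change ρ ut (T c) - T c = _ at h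
    rw [hd c hc, map_add, add_sub_add_comm, hut, hmove _ (hmem c hc), ← map_add] at h
    have h' := hι h
    have e1 : q (Φ !![t, 0; 0, t] (Φ !![t, 0; 0, t] c)) = Ψ !![t * t, 0; 0, t * t] (q c) := by
      rw [htq t _ (hmem c hc), htq t c hc, act_mul]
      congr 2; ext i j; fin_cases i <;> fin_cases j <;> simp
    rw [e1, htq t c hc] at h'
    have e2 : Ψ !![0, t; 0, 0] (d c) = Ψ !![t, 0; 0, t] (γ c) := by
      rw [hγ, act_mul]; congr 2; ext i j; fin_cases i <;> fin_cases j <;> simp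
    rw [e2] at h'
    rw [← hγ] at h'
    rw [show (!![t * t + t, 0; 0, t * t + t] : M2) = !![t * t, 0; 0, t * t] + !![t, 0; 0, t] by
      ext i j; fin_cases i <;> fin_cases j <;> simp, act_add, ← h']
    have h2 : ∀ x y z : W, z = y + (x + (x + z + y)) := fun x y z => by
      rw [show y + (x + (x + z + y)) = z + ((x + x) + (y + y)) by abel, hW, hW, add_zero, add_zero]
    exact h2 _ _ _
  have hpow : ∀ (k : ℕ) c, Φ !![1, 0; 0, 0] c = c → γ (Φ !![t ^ k, 0; 0, t ^ k] c) =
      Ψ !![t ^ k, 0; 0, t ^ k] (γ c) + Ψ !![(k : K) * (t ^ k * (t + 1)), 0; 0, (k : K) * (t ^ k * (t + 1))] (q c) := by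
    intro k
    induction k with
    | zero =>
      intro c hc
      simp only [pow_zero, Nat.cast_zero, zero_mul, one_mul]
      rw [show (!![1, 0; 0, 1] : M2) = 1 by ext i j; fin_cases i <;> fin_cases j <;> simp,
        show (!![0, 0; 0, 0] : M2) = 0 by ext i j; fin_cases i <;> fin_cases j <;> simp, act_one, act_one, act_zero, add_zero]
    | succ k ih =>
      intro c hc
      have hc' : Φ !![1, 0; 0, 0] (Φ !![t ^ k, 0; 0, t ^ k] c) = Φ !![t ^ k, 0; 0, t ^ k] c := by
        conv_rhs => rw [← hc]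
        rw [act_mul, act_mul]; congr 2; ext i j; fin_cases i <;> fin_cases j <;> simp
      have h := hrec _ hc'
      rw [act_mul, show (!![t, 0; 0, t] : M2) * !![t ^ k, 0; 0, t ^ k] = !![t ^ (k + 1), 0; 0, t ^ (k + 1)] by
        ext i j; fin_cases i <;> fin_cases j <;> simp [pow_succ, mul_comm]] at h
      rw [h, ih c hc, htq (t ^ k) c hc, map_add, act_mul, act_mul, act_mul, add_assoc, ← act_add]
      congr 2
      · congr 1; ext i j; fin_cases i <;> fin_cases j <;> simp [pow_succ, mul_comm]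
      · congr 1; ext i j; fin_cases i <;> fin_cases j <;> simp [pow_succ] <;> ring
  have hA : ∀ c, Φ !![1, 0; 0, 0] c = c → q c = 0 := by
    intro c hc
    have h := hpow (Fintype.card K) c hc
    simp only [FiniteField.pow_card, FiniteField.cast_card_eq_zero, zero_mul] at h
    rw [show (!![0, 0; 0, 0] : M2) = 0 by ext i j; fin_cases i <;> fin_cases j <;> simp, act_zero, add_zero, hrec c hc] at h
    have h1 := add_eq_left.1 h
    have hne : t * t + t ≠ 0 := by
      rw [show t * t + t = t * (t + 1) by ring]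
      exact mul_ne_zero ht0 fun e => ht1 (CharTwo.add_eq_zero.1 e)
    have h4 := congrArg (Ψ !![(t * t + t)⁻¹, 0; 0, (t * t + t)⁻¹]) h1
    rw [act_mul, map_zero] at h4
    rw [← act_one Ψ (q c), ← h4]
    congr 2; ext i j; fin_cases i <;> fin_cases j <;> simp [hne]
  intro p
  obtain ⟨a, b, ha, hb, hab⟩ := split Φ (π p)
  have hwb : Φ (wE : SL(2, K)) b = Φ !![0, 0; 1, 0] b := by
    conv_lhs => rw [← hb]
    rw [act_mul]
    conv_rhs => rw [← hb, act_mul]
    congr 2; ext i j; fin_cases i <;> fin_cases j <;> simp [coe_wE]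
  rw [hq, hab, map_add q, hA a ha, ← hwb, hqg, hA b hb, map_zero, add_zero, map_zero]

end Cfsg.Lib.HigmanFpf
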