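import Cfsg.Agent.HigmanFpf.Ring
import Cfsg.Agent.Known.SLTwo.SL

/-!
A module of exponent two for `SL₂` of a field of characteristic two on which the elements of trace one
have no fixed points is a module for the matrix ring, hence a sum of natural modules.
-/

set_option autoImplicit false
set_option linter.unusedSectionVars false

namespace Cfsg.Lib.HigmanFpf

open Matrix
open scoped MatrixGroups

variable {K : Type*} [Field K]

/-- Upper transvection. -/
def uU (a : K) : SL(2, K) := ⟨!![1, a; 0, 1], by simp [Matrix.det_fin_two]⟩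

/-- Lower transvection. -/
def vL (a : K) : SL(2, K) := ⟨!![1, 0; a, 1], by simp [Matrix.det_fin_two]⟩

@[simp] theorem coe_uU (a : K) : ((uU a : SL(2, K)) : Matrix (Fin 2) (Fin 2) K) = !![1, a; 0, 1] := rfl

@[simp] theorem coe_vL (a : K) : ((vL a : SL(2, K)) : Matrix (Fin 2) (Fin 2) K) = !![1, 0; a, 1] := rfl

theorem uU_mul (a b : K) : uU a * uU b = uU (a + b) := Subtype.ext (by
  ext i j; fin_cases i <;> fin_cases j <;> simp [add_comm])

theorem vL_mul (a b : K) : vL a * vL b = vL (a + b) := Subtype.ext (by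
  ext i j; fin_cases i <;> fin_cases j <;> simp [add_comm])

theorem uU_zero : uU (0 : K) = 1 := Subtype.ext (by
  ext i j; fin_cases i <;> fin_cases j <;> simp)

theorem vL_zero : vL (0 : K) = 1 := Subtype.ext (by
  ext i j; fin_cases i <;> fin_cases j <;> simp)

variable [CharP K 2]

theorem uU_sq (a : K) : uU a * uU a = 1 := by rw [uU_mul, CharTwo.add_self_eq_zero, uU_zero]

theorem vL_sq (a : K) : vL a * vL a = 1 := by rw [vL_mul, CharTwo.add_self_eq_zero, vL_zero]

/-- The Weyl element. -/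
def wE : SL(2, K) := uU 1 * vL 1 * uU 1

theorem coe_wE : ((wE : SL(2, K)) : Matrix (Fin 2) (Fin 2) K) = !![0, 1; 1, 0] := by
  ext i j; fin_cases i <;> fin_cases j <;>
    simp [wE, CharTwo.add_self_eq_zero]

theorem wE_uU (a : K) : wE * uU a * wE = vL a := Subtype.ext (by
  ext i j; fin_cases i <;> fin_cases j <;>
    simp [coe_wE])

theorem torus_rel {a : K} (ha : a ≠ 0) :
    uU a * vL a⁻¹ * uU a * wE * uU 1 = uU (a * a) * (uU a * vL a⁻¹ * uU a * wE) := Subtype.ext (by
  ext i j; fin_cases i <;> fin_cases j <;>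
    simp [coe_wE, ha, CharTwo.add_self_eq_zero, CharTwo.sub_eq_add]
    <;> field_simp <;> simp [CharTwo.add_self_eq_zero])

/-- Transvections generate. -/
theorem gen (g : SL(2, K)) {p : SL(2, K) → Prop} (hu : ∀ a, p (uU a)) (hv : ∀ a, p (vL a))
    (hm : ∀ x y, p x → p y → p (x * y)) : p g := by
  have key : ∀ h : SL(2, K), (h : Matrix (Fin 2) (Fin 2) K) 1 0 ≠ 0 → p h := by
    intro h hc
    have hdet := Matrix.SpecialLinearGroup.det_coe h
    rw [Matrix.det_fin_two] at hdet
    set α := (h : Matrix (Fin 2) (Fin 2) K) 0 0 with hα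
    set β := (h : Matrix (Fin 2) (Fin 2) K) 0 1 with hβ
    set γ := (h : Matrix (Fin 2) (Fin 2) K) 1 0 with hγ
    set δ := (h : Matrix (Fin 2) (Fin 2) K) 1 1 with hδ
    have e : h = uU ((α - 1) / γ) * vL γ * uU ((δ - 1) / γ) := Subtype.ext (by
      ext i j; fin_cases i <;> fin_cases j <;>
        simp [← hα, ← hβ, ← hγ, ← hδ] <;> field_simp <;> ring_nf
      linear_combination -hdet)
    rw [e]; exact hm _ _ (hm _ _ (hu _) (hv _)) (hu _)
  by_cases hc : (g : Matrix (Fin 2) (Fin 2) K) 1 0 = 0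
  · have hdet := Matrix.SpecialLinearGroup.det_coe g
    rw [Matrix.det_fin_two, hc, mul_zero, sub_zero] at hdet
    have h1 : ((g * vL 1 : SL(2, K)) : Matrix (Fin 2) (Fin 2) K) 1 0 ≠ 0 := by
      simp [Matrix.mul_apply, Fin.sum_univ_two, hc]
      exact right_ne_zero_of_mul_eq_one hdet
    have e : g = g * vL 1 * vL 1 := by rw [mul_assoc, vL_sq, mul_one]
    rw [e]; exact hm _ _ (key _ h1) (hv _)
  · exact key g hc

variable [Fintype K]

/-- The conjugacy of the elements of trace one. -/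
theorem isConj_trace_one {g h : SL(2, K)} (hg : (g : Matrix (Fin 2) (Fin 2) K).trace = 1)
    (hh : (h : Matrix (Fin 2) (Fin 2) K).trace = 1) : IsConj g h := by
  have hns : ∀ k : SL(2, K), (k : Matrix (Fin 2) (Fin 2) K).trace = 1 →
      Cfsg.Lib.GLTwo.NonScalar (k : Matrix (Fin 2) (Fin 2) K) := fun k hk hs => by
    rw [Matrix.trace_fin_two, hs.2.2, CharTwo.add_self_eq_zero] at hk
    exact zero_ne_one hk
  exact Cfsg.Lib.GLTwo.isConj_SL (hns g hg) (hns h hh) (hg.trans hh.symm)
    (Cfsg.Lib.GLTwo.full_SL g (hns g hg) (Or.inr inferInstance))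

variable {R : Type*} [Ring R]

theorem exists_matrix_hom (h2 : ∀ x : R, x + x = 0) (ρ : SL(2, K) →* R)
    (hrel : ∀ g : SL(2, K), (g : Matrix (Fin 2) (Fin 2) K).trace = 1 → ρ g * ρ g + ρ g + 1 = 0) :
    ∃ Φ : Matrix (Fin 2) (Fin 2) K →+* R, ∀ g : SL(2, K), Φ (g : Matrix (Fin 2) (Fin 2) K) = ρ g := by
  let N : K → R := fun a => ρ (uU a) + 1
  let M : K → R := fun a => ρ (vL a) + 1
  have hu : ∀ a, ρ (uU a) = N a + 1 := fun a => by simp [N, add_assoc, h2]
  have hv : ∀ a, ρ (vL a) = M a + 1 := fun a => by simp [M, add_assoc, h2]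
  have hadd : ∀ a b, N (a + b) = N a + N b + N a * N b := fun a b => by
    calc N (a + b) = (N a + 1) * (N b + 1) + 1 := by
          show ρ (uU (a + b)) + 1 = _
          rw [← uU_mul, map_mul, hu, hu]
      _ = N a + N b + N a * N b + (1 + 1) := by noncomm_ring
      _ = _ := by rw [h2, add_zero]
  have hsq0 : ∀ {x : R}, (x + 1) * (x + 1) = 1 → x * x = 0 := fun {x} h => by
    calc x * x = (x + 1) * (x + 1) + 1 := by
          rw [show (x + 1) * (x + 1) + 1 = x * x + (x + x) + (1 + 1) by noncomm_ring, h2, h2, add_zero, add_zero]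
      _ = 0 := by rw [h, h2]
  have hsq : ∀ a, N a * N a = 0 := fun a => hsq0 (by rw [← hu, ← map_mul, uU_sq, map_one])
  have hMsq : ∀ a, M a * M a = 0 := fun a => hsq0 (by rw [← hv, ← map_mul, vL_sq, map_one])
  have hanti : ∀ a : K, a ≠ 0 → N a * M a⁻¹ + M a⁻¹ * N a = 1 := by
    intro a ha
    set g := uU a * vL a⁻¹ with hg
    have htr : (g : Matrix (Fin 2) (Fin 2) K).trace = 1 := by
      simp [hg, Matrix.trace_fin_two, Matrix.mul_apply, Fin.sum_univ_two, ha, add_assoc,
        CharTwo.add_self_eq_zero]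
    have hginv : g * (vL a⁻¹ * uU a) = 1 := by
      rw [hg, mul_assoc, ← mul_assoc (vL a⁻¹), vL_sq, one_mul, uU_sq]
    have h := congrArg (· * ρ (vL a⁻¹ * uU a)) (hrel g htr)
    simp only [add_mul, zero_mul, one_mul, mul_assoc, ← map_mul, hginv, mul_one, map_one] at h
    rw [hg, map_mul, map_mul, hu, hv] at h
    calc N a * M a⁻¹ + M a⁻¹ * N a
        = (N a + 1) * (M a⁻¹ + 1) + 1 + (M a⁻¹ + 1) * (N a + 1) + 1 := by
          rw [show (N a + 1) * (M a⁻¹ + 1) + 1 + (M a⁻¹ + 1) * (N a + 1) + 1 = N a * M a⁻¹ + M a⁻¹ * N a +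
            ((N a + N a) + (M a⁻¹ + M a⁻¹) + ((1 + 1) + (1 + 1))) by noncomm_ring, h2, h2, h2]
          simp [h2]
      _ = 1 := by rw [h, zero_add]
  have hweyl : ∀ a : K, a ≠ 0 → ρ (uU a * vL a⁻¹ * uU a) = M a⁻¹ + N a := by
    intro a ha
    have hNMN : N a * M a⁻¹ * N a = N a := by
      have := congrArg (N a * ·) (hanti a ha)
      simpa [mul_add, ← mul_assoc, hsq] using this
    rw [map_mul, map_mul, hu, hv]
    calc (N a + 1) * (M a⁻¹ + 1) * (N a + 1) =
          N a * M a⁻¹ * N a + (N a * M a⁻¹ + M a⁻¹ * N a) + M a⁻¹ + N a * N a + (N a + N a) + 1 := by noncomm_ring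
      _ = M a⁻¹ + N a + (1 + 1) := by rw [hNMN, hanti a ha, hsq, h2]; abel
      _ = _ := by rw [h2, add_zero]
  set r := M 1
  have hw : ρ wE = N 1 + r := by
    have h := hweyl 1 one_ne_zero
    rw [inv_one] at h
    rw [wE, h, add_comm]
  have hww : (N 1 + r) * (N 1 + r) = 1 := by
    have h := hanti 1 one_ne_zero
    rw [inv_one] at h
    rw [show (N 1 + r) * (N 1 + r) = N 1 * N 1 + r * r + (N 1 * r + r * N 1) by noncomm_ring, hsq, hMsq, h]
    simp
  have hM : ∀ a, M a = (N 1 + r) * N a * (N 1 + r) := fun a => by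
    show ρ (vL a) + 1 = _
    rw [← wE_uU, map_mul, map_mul, hw, hu]
    rw [show (N 1 + r) * (N a + 1) * (N 1 + r) + 1 = (N 1 + r) * N a * (N 1 + r) + ((N 1 + r) * (N 1 + r) + 1) by
      noncomm_ring, hww, h2, add_zero]
  obtain ⟨Y, hY⟩ := exists_scalars h2 N r (hMsq 1) hadd hsq (by simpa [r] using hanti 1 one_ne_zero)
    (fun a ha => by rw [← hM]; exact hanti a ha) (fun a ha => by
      have h := congrArg ρ (torus_rel ha)
      rw [map_mul (ρ) _ (uU 1), map_mul ρ (uU (a * a)), map_mul ρ _ wE, hweyl a ha, hw, hu, hu] at h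
      rw [mul_add _ (N 1) 1, mul_one, add_mul (N (a * a)) 1, one_mul] at h
      rw [← hM]
      exact add_right_cancel h)
  set n := N 1
  have hone : n * r + r * n = 1 := by simpa [r] using hanti 1 one_ne_zero
  have U : Units2 n r := ⟨h2, hsq 1, hMsq 1, hone⟩
  have hNY : ∀ a, N a = Y a * n := fun a => (hY a).2.2
  have hMY : ∀ a, M a = Y a * r := fun a => by
    rw [hM, hNY, ← mul_assoc, ← ((hY a).1.add_right (hY a).2.1).eq, mul_assoc, mul_assoc,
      show (n + r) * (n * (n + r)) = n * n * (n + r) + r * (n * n) + r * n * r by noncomm_ring, U.nn, U.rnr]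
    simp
  have he1 : n * r * (n * r) = n * r := by rw [← mul_assoc, U.nrn]
  have he4 : r * n * (r * n) = r * n := by rw [← mul_assoc, U.rnr]
  have hY' : ∀ a (e : R), e = n * r ∨ e = n ∨ e = r ∨ e = r * n → e * Y a = Y a * e := by
    intro a e he
    obtain ⟨c1, c2, -⟩ := hY a
    rcases he with rfl | rfl | rfl | rfl
    · exact (c1.mul_right c2).eq.symm
    · exact c1.eq.symm
    · exact c2.eq.symm
    · exact (c2.mul_right c1).eq.symm
  let f : Matrix (Fin 2) (Fin 2) K → R := fun m =>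
    Y (m 0 0) * (n * r) + Y (m 0 1) * n + Y (m 1 0) * r + Y (m 1 1) * (r * n)
  have sw : ∀ a b (e e' : R), e = n * r ∨ e = n ∨ e = r ∨ e = r * n → Y a * e * (Y b * e') = Y (a * b) * (e * e') := by
    intro a b e e' he
    rw [map_mul, mul_assoc, ← mul_assoc e, hY' b e he]
    simp only [mul_assoc]
  let Φ : Matrix (Fin 2) (Fin 2) K →+* R :=
    { toFun := f
      map_one' := by simp [f, hone]
      map_zero' := by simp [f]
      map_add' := fun x y => by simp only [f, Matrix.add_apply, map_add, add_mul]; abel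
      map_mul' := fun x y => by
        simp only [f, mul_add, add_mul]
        rw [sw _ _ (n * r) (n * r) (by simp), sw _ _ (n * r) n (by simp), sw _ _ (n * r) r (by simp),
          sw _ _ (n * r) (r * n) (by simp), sw _ _ n (n * r) (by simp), sw _ _ n n (by simp), sw _ _ n r (by simp),
          sw _ _ n (r * n) (by simp), sw _ _ r (n * r) (by simp), sw _ _ r n (by simp), sw _ _ r r (by simp),
          sw _ _ r (r * n) (by simp), sw _ _ (r * n) (n * r) (by simp), sw _ _ (r * n) n (by simp),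
          sw _ _ (r * n) r (by simp), sw _ _ (r * n) (r * n) (by simp), he1, he4, U.nrn, U.rnr,
          show n * (n * r) = 0 by rw [← mul_assoc, U.nn, zero_mul],
          show n * (r * n) = n by rw [← mul_assoc, U.nrn],
          show r * (n * r) = r by rw [← mul_assoc, U.rnr],
          show r * (r * n) = 0 by rw [← mul_assoc, U.rr, zero_mul],
          show n * r * r = 0 by rw [mul_assoc, U.rr, mul_zero],
          show n * r * (r * n) = 0 by rw [mul_assoc, ← mul_assoc r, U.rr, zero_mul, mul_zero],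
          show r * n * (n * r) = 0 by rw [mul_assoc, ← mul_assoc n, U.nn, zero_mul, mul_zero],
          show r * n * n = 0 by rw [mul_assoc, U.nn, mul_zero],
          U.nn, U.rr]
        simp only [Matrix.mul_apply, Fin.sum_univ_two, map_add, add_mul, mul_zero]
        abel }
  refine ⟨Φ, fun g => ?_⟩
  refine gen g (p := fun g => Φ (g : Matrix (Fin 2) (Fin 2) K) = ρ g) (fun a => ?_) (fun a => ?_) ?_
  · show f (uU a : SL(2, K)) = ρ (uU a)
    rw [hu, hNY]
    simp [f]
    rw [← hone]; abel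
  · show f (vL a : SL(2, K)) = ρ (vL a)
    rw [hv, hMY]
    simp [f]
    rw [← hone]; abel
  · intro x y hx hy
    rw [Matrix.SpecialLinearGroup.coe_mul, map_mul, hx, hy, map_mul]

end Cfsg.Lib.HigmanFpf
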