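import Mathlib

/-!
The ring-theoretic core of Higman's theorem: in characteristic two, an additive family of square-zero
elements satisfying the anticommutator relation of the elements of order three is given by a field
of scalars and a pair of matrix units.
-/

set_option autoImplicit false
set_option linter.unusedSectionVars false

namespace Cfsg.Lib.HigmanFpf

variable {R : Type*} [Ring R]

/-- The matrix-unit datum. -/
structure Units2 (n r : R) : Prop where
  two : ∀ x : R, x + x = 0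
  nn : n * n = 0
  rr : r * r = 0
  one : n * r + r * n = 1

namespace Units2

variable {n r : R} (U : Units2 n r)
include U

theorem eq_of_add {x y : R} (h : x + y = 0) : x = y := by
  calc x = x + (y + y) := by rw [U.two, add_zero]
    _ = y := by rw [← add_assoc, h, zero_add]

theorem nrn : n * r * n = n := by
  have h := congrArg (n * ·) U.one
  simp only [mul_add, ← mul_assoc, U.nn, zero_mul, zero_add, mul_one] at h
  exact h

theorem rnr : r * n * r = r := by
  have h := congrArg (r * ·) U.one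
  simp only [mul_add, ← mul_assoc, U.rr, zero_mul, add_zero, mul_one] at h
  exact h

theorem eq_zero_of_mul_n {Z : R} (hr : Commute Z r) (h : Z * n = 0) : Z = 0 := by
  calc Z = Z * (n * r + r * n) := by rw [U.one, mul_one]
    _ = Z * n * r + r * (Z * n) := by rw [mul_add, ← mul_assoc, ← mul_assoc, hr.eq, mul_assoc r Z n]
    _ = 0 := by rw [h]; simp

theorem coords {P Q S T V : R} (hP : Commute P n) (hPr : Commute P r) (hQ : Commute Q n) (hQr : Commute Q r)
    (hS : Commute S n) (hSr : Commute S r) (hT : Commute T n) (hTr : Commute T r) (hV : Commute V n) (hVr : Commute V r)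
    (h : P + Q * n + S * r + T * (n * r) + V * (r * n) = 0) : Q = 0 ∧ S = 0 ∧ P = T ∧ P = V := by
  have hnrn : n * (r * n) = n := by rw [← mul_assoc, U.nrn]
  have hrnr : r * (n * r) = r := by rw [← mul_assoc, U.rnr]
  have e1 := congrArg (n * ·) h
  simp only [mul_add, mul_zero, ← mul_assoc n P, ← mul_assoc n Q, ← mul_assoc n S, ← mul_assoc n T, ← mul_assoc n V,
    ← hP.eq, ← hQ.eq, ← hS.eq, ← hT.eq, ← hV.eq] at e1
  simp only [mul_assoc, ← mul_assoc n n, U.nn, zero_mul, mul_zero, add_zero, hnrn] at e1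
  have e2 := congrArg (r * ·) h
  simp only [mul_add, mul_zero, ← mul_assoc r P, ← mul_assoc r Q, ← mul_assoc r S, ← mul_assoc r T, ← mul_assoc r V,
    ← hPr.eq, ← hQr.eq, ← hSr.eq, ← hTr.eq, ← hVr.eq] at e2
  simp only [mul_assoc, ← mul_assoc r r, U.rr, zero_mul, mul_zero, add_zero, hrnr] at e2
  have hS0 : S = 0 := by
    refine U.eq_zero_of_mul_n hSr ?_
    have := congrArg (· * n) e1
    simpa [add_mul, mul_assoc, U.nn, hnrn] using this
  have hQ0 : Q = 0 := by
    have : Q * r = 0 := by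
      have := congrArg (· * r) e2
      simpa [add_mul, mul_assoc, U.rr, hrnr] using this
    calc Q = Q * (n * r + r * n) := by rw [U.one, mul_one]
      _ = n * (Q * r) + Q * r * n := by rw [mul_add, ← mul_assoc, ← mul_assoc, hQ.eq, mul_assoc n Q r]
      _ = 0 := by rw [this]; simp
  refine ⟨hQ0, hS0, ?_, ?_⟩
  · rw [hQ0] at e2
    simp only [zero_mul, mul_zero, add_zero] at e2
    have h3 : (P + T) * r = 0 := by rw [add_mul]; exact e2
    refine U.eq_of_add ?_
    calc P + T = (P + T) * (n * r + r * n) := by rw [U.one, mul_one]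
      _ = n * ((P + T) * r) + (P + T) * r * n := by
        rw [mul_add, ← mul_assoc, ← mul_assoc, (hP.add_left hT).eq, mul_assoc n (P + T) r]
      _ = 0 := by rw [h3]; simp
  · rw [hS0] at e1
    simp only [zero_mul, mul_zero, add_zero] at e1
    exact U.eq_of_add (U.eq_zero_of_mul_n (hPr.add_left hVr) (by rw [add_mul]; exact e1))

end Units2

variable {K : Type*} [Field K] [Fintype K] [CharP K 2]

theorem sq_surj (a : K) : ∃ b : K, a = b * b := by
  obtain ⟨b, hb⟩ := FiniteField.isSquare_of_char_two (ringChar.eq K 2) a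
  exact ⟨b, hb⟩

/-- The core: `N a = Y a * n` for a field homomorphism `Y` commuting with the matrix units. -/
theorem exists_scalars (h2 : ∀ x : R, x + x = 0) (N : K → R) (r : R)
    (hrr : r * r = 0)
    (hadd : ∀ a b, N (a + b) = N a + N b + N a * N b)
    (hsq : ∀ a, N a * N a = 0)
    (hone : N 1 * r + r * N 1 = 1)
    (hrel : ∀ a : K, a ≠ 0 → N a * ((N 1 + r) * N a⁻¹ * (N 1 + r)) + (N 1 + r) * N a⁻¹ * (N 1 + r) * N a = 1)
    (htor : ∀ a : K, a ≠ 0 → ((N 1 + r) * N a⁻¹ * (N 1 + r) + N a) * (N 1 + r) * N 1 =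
      N (a * a) * (((N 1 + r) * N a⁻¹ * (N 1 + r) + N a) * (N 1 + r))) :
    ∃ Y : K →+* R, ∀ a, Commute (Y a) (N 1) ∧ Commute (Y a) r ∧ N a = Y a * N 1 := by
  set n := N 1 with hn
  have U : Units2 n r := ⟨h2, hsq 1, hrr, hone⟩
  have hcomm : ∀ a b, Commute (N a) (N b) := fun a b => by
    have h := (hadd a b).symm.trans ((congrArg N (add_comm a b)).trans (hadd b a))
    rw [add_comm (N b) (N a)] at h
    exact add_left_cancel h
  obtain ⟨Y, hYdef⟩ : ∃ Y : K → R, ∀ a, Y a = r * N a + N a * r := ⟨_, fun a => rfl⟩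
  obtain ⟨X, hXdef⟩ : ∃ X : K → R, ∀ a, X a = N a + Y a * n := ⟨_, fun a => rfl⟩
  have hrY : ∀ a, Commute (Y a) r := fun a => by
    simp only [hYdef, Commute, SemiconjBy, add_mul, mul_add, mul_assoc, hrr, mul_zero]
    rw [← mul_assoc r r, hrr, zero_mul, zero_add, add_zero]
  have hnY : ∀ a, Commute (Y a) n := fun a => by
    refine U.eq_of_add ?_
    rw [hYdef]
    calc (r * N a + N a * r) * n + n * (r * N a + N a * r)
        = r * (N a * n) + N a * (r * n) + n * r * N a + (n * N a) * r := by noncomm_ring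
      _ = r * (n * N a) + N a * (r * n) + n * r * N a + (N a * n) * r := by rw [(hcomm a 1).eq]
      _ = (n * r + r * n) * N a + N a * (n * r + r * n) := by noncomm_ring
      _ = 0 := by rw [hone, one_mul, mul_one, h2]
  have hnX : ∀ a, Commute (X a) n := fun a => hXdef a ▸ (hcomm a 1).add_left ((hnY a).mul_left (Commute.refl n))
  have hrX : ∀ a, Commute (X a) r := fun a => by
    refine U.eq_of_add ?_
    rw [hXdef]
    calc (N a + Y a * n) * r + r * (N a + Y a * n)
        = (r * N a + N a * r) + (Y a * (n * r) + r * Y a * n) := by noncomm_ring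
      _ = Y a + Y a * (n * r + r * n) := by rw [← hYdef, ← (hrY a).eq, mul_add, mul_assoc]
      _ = 0 := by rw [hone, mul_one, h2]
  have hN : ∀ a, N a = X a + Y a * n := fun a => by simp only [hXdef, add_assoc, h2, add_zero]
  have hnn : n * n = 0 := U.nn
  have hnrn : n * (r * n) = n := by rw [← mul_assoc, U.nrn]
  have hww : (n + r) * (n + r) = 1 := by
    rw [show (n + r) * (n + r) = n * n + r * r + (n * r + r * n) by noncomm_ring, hnn, hrr, hone, zero_add, zero_add]
  have hwnw : (n + r) * n * (n + r) = r := by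
    rw [show (n + r) * n * (n + r) = n * n * (n + r) + r * (n * n) + r * n * r by noncomm_ring, hnn, U.rnr]
    simp
  have hwX : ∀ a, Commute (X a) (n + r) := fun a => (hnX a).add_right (hrX a)
  have hwY : ∀ a, Commute (Y a) (n + r) := fun a => (hnY a).add_right (hrY a)
  have hM : ∀ a, (n + r) * N a * (n + r) = X a + Y a * r := fun a => by
    rw [hN a, mul_add (n + r), add_mul, ← (hwX a).eq, mul_assoc (X a), hww, mul_one, ← mul_assoc, ← (hwY a).eq,
      show Y a * (n + r) * n * (n + r) = Y a * ((n + r) * n * (n + r)) by noncomm_ring, hwnw]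
  -- commutation inside the family
  have hsum : ∀ a b, N a * N b = X a * X b + (X a * Y b + Y a * X b) * n := fun a b => by
    calc N a * N b = X a * X b + X a * Y b * n + Y a * (n * X b) + Y a * (n * Y b) * n := by
          rw [hN a, hN b]; noncomm_ring
      _ = X a * X b + X a * Y b * n + Y a * (X b * n) + Y a * (Y b * n) * n := by rw [← (hnX b).eq, ← (hnY b).eq]
      _ = X a * X b + (X a * Y b + Y a * X b) * n + Y a * Y b * (n * n) := by noncomm_ring
      _ = _ := by rw [hnn, mul_zero, add_zero]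
  have hsplit : ∀ {P Q : R}, Commute P n → Commute P r → Commute Q n → Commute Q r → P + Q * n = 0 →
      P = 0 ∧ Q = 0 := fun {P Q} h1 h2' h3 h4 h => by
    obtain ⟨e1, -, e3, -⟩ := U.coords h1 h2' h3 h4 (Commute.zero_left _) (Commute.zero_left _)
      (Commute.zero_left _) (Commute.zero_left _) (Commute.zero_left _) (Commute.zero_left _)
      (by simpa using h)
    exact ⟨e3, e1⟩
  have hXX : ∀ a b, X a * X b = X b * X a := fun a b => by
    have h : N a * N b + N b * N a = 0 := by rw [(hcomm a b).eq, h2]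
    rw [hsum, hsum] at h
    refine U.eq_of_add (hsplit (((hnX a).mul_left (hnX b)).add_left ((hnX b).mul_left (hnX a)))
      (((hrX a).mul_left (hrX b)).add_left ((hrX b).mul_left (hrX a))) ?_ ?_ (Q := X a * Y b + Y a * X b + (X b * Y a + Y b * X a))
      (by rw [← h]; noncomm_ring)).1
    · exact (((hnX a).mul_left (hnY b)).add_left ((hnY a).mul_left (hnX b))).add_left
        (((hnX b).mul_left (hnY a)).add_left ((hnY b).mul_left (hnX a)))
    · exact (((hrX a).mul_left (hrY b)).add_left ((hrY a).mul_left (hrX b))).add_left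
        (((hrX b).mul_left (hrY a)).add_left ((hrY b).mul_left (hrX a)))
  have hsq' : ∀ a, X a * X a = 0 ∧ X a * Y a = Y a * X a := fun a => by
    have h := hsq a
    rw [hsum] at h
    obtain ⟨e1, e2⟩ := hsplit ((hnX a).mul_left (hnX a)) ((hrX a).mul_left (hrX a))
      (((hnX a).mul_left (hnY a)).add_left ((hnY a).mul_left (hnX a)))
      (((hrX a).mul_left (hrY a)).add_left ((hrY a).mul_left (hrX a))) h
    exact ⟨e1, U.eq_of_add e2⟩
  have hpair : ∀ a : K, a ≠ 0 → Y a * Y a⁻¹ = 1 ∧ Y a⁻¹ * Y a = 1 ∧ Y a * X a⁻¹ = X a⁻¹ * Y a := by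
    intro a ha
    have h : N a * ((n + r) * N a⁻¹ * (n + r)) + (n + r) * N a⁻¹ * (n + r) * N a + 1 = 0 := by rw [hrel a ha, h2]
    rw [hM, hN a] at h
    have e : (X a * X a⁻¹ + X a⁻¹ * X a + 1) + (Y a * X a⁻¹ + X a⁻¹ * Y a) * n + (X a * Y a⁻¹ + Y a⁻¹ * X a) * r +
        Y a * Y a⁻¹ * (n * r) + Y a⁻¹ * Y a * (r * n) = 0 := by
      rw [← h]
      calc _ = X a * X a⁻¹ + X a⁻¹ * X a + 1 + Y a * (X a⁻¹ * n) + X a⁻¹ * Y a * n + X a * Y a⁻¹ * r +
            Y a⁻¹ * (X a * r) + Y a * (Y a⁻¹ * n) * r + Y a⁻¹ * (Y a * r) * n := by noncomm_ring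
        _ = _ := by rw [(hnX a⁻¹).eq, (hrX a).eq, (hnY a⁻¹).eq, (hrY a).eq]; noncomm_ring
    obtain ⟨e1, -, e3, e4⟩ := U.coords
      ((((hnX a).mul_left (hnX a⁻¹)).add_left ((hnX a⁻¹).mul_left (hnX a))).add_left (Commute.one_left n))
      ((((hrX a).mul_left (hrX a⁻¹)).add_left ((hrX a⁻¹).mul_left (hrX a))).add_left (Commute.one_left r))
      (((hnY a).mul_left (hnX a⁻¹)).add_left ((hnX a⁻¹).mul_left (hnY a)))
      (((hrY a).mul_left (hrX a⁻¹)).add_left ((hrX a⁻¹).mul_left (hrY a)))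
      (((hnX a).mul_left (hnY a⁻¹)).add_left ((hnY a⁻¹).mul_left (hnX a)))
      (((hrX a).mul_left (hrY a⁻¹)).add_left ((hrY a⁻¹).mul_left (hrX a)))
      ((hnY a).mul_left (hnY a⁻¹)) ((hrY a).mul_left (hrY a⁻¹))
      ((hnY a⁻¹).mul_left (hnY a)) ((hrY a⁻¹).mul_left (hrY a)) e
    rw [hXX a⁻¹ a, h2, zero_add] at e3 e4
    exact ⟨e3.symm, e4.symm, U.eq_of_add e1⟩
  have hX1 : X 1 = 0 := by simp only [hXdef, hYdef, ← hn, add_comm (r * n), hone, one_mul, h2]
  have hY1 : Y 1 = 1 := by simp only [hYdef, ← hn, add_comm (r * n), hone]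
  have hXadd : ∀ a b, X (a + b) = X a + X b + X a * X b ∧ Y (a + b) = Y a + Y b + (X a * Y b + Y a * X b) := by
    intro a b
    have h : (X (a + b) + (X a + X b + X a * X b)) + (Y (a + b) + (Y a + Y b + (X a * Y b + Y a * X b))) * n = 0 := by
      calc _ = (X (a + b) + Y (a + b) * n) + ((X a + Y a * n) + (X b + Y b * n) +
            (X a * X b + (X a * Y b + Y a * X b) * n)) := by noncomm_ring
        _ = N (a + b) + N (a + b) := by rw [← hN, ← hN, ← hN, ← hsum, ← hadd]
        _ = 0 := h2 _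
    obtain ⟨e1, e2⟩ := hsplit
      ((hnX _).add_left (((hnX a).add_left (hnX b)).add_left ((hnX a).mul_left (hnX b))))
      ((hrX _).add_left (((hrX a).add_left (hrX b)).add_left ((hrX a).mul_left (hrX b))))
      ((hnY _).add_left (((hnY a).add_left (hnY b)).add_left
        (((hnX a).mul_left (hnY b)).add_left ((hnY a).mul_left (hnX b)))))
      ((hrY _).add_left (((hrY a).add_left (hrY b)).add_left
        (((hrX a).mul_left (hrY b)).add_left ((hrY a).mul_left (hrX b))))) h
    exact ⟨U.eq_of_add e1, U.eq_of_add e2⟩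
  have hsucc : ∀ a, X (a + 1) = X a ∧ Y (a + 1) = Y a + 1 + X a := fun a => by
    obtain ⟨e1, e2⟩ := hXadd a 1
    rw [hX1] at e1 e2
    rw [hY1] at e2
    exact ⟨by simpa using e1, by simpa using e2⟩
  -- the torus
  have hsquare : ∀ a : K, a ≠ 0 → Y (a * a) = Y a * Y a ∧ X (a * a) = (X a + X a⁻¹) * Y a := by
    intro a ha
    obtain ⟨y1, y2, y3⟩ := hpair a ha
    have hh : ((n + r) * N a⁻¹ * (n + r) + N a) * (n + r) =
        (X a + X a⁻¹) * n + (X a + X a⁻¹) * r + Y a * (n * r) + Y a⁻¹ * (r * n) := by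
      rw [hM, hN a]
      calc (X a⁻¹ + Y a⁻¹ * r + (X a + Y a * n)) * (n + r) = (X a + X a⁻¹) * n + (X a + X a⁻¹) * r + Y a * (n * r) +
            Y a⁻¹ * (r * n) + (Y a * (n * n) + Y a⁻¹ * (r * r)) := by noncomm_ring
        _ = _ := by rw [hnn, hrr]; simp
    have h := htor a ha
    rw [hh] at h
    set D := X a + X a⁻¹ with hD
    have hDn : Commute D n := (hnX a).add_left (hnX a⁻¹)
    have hDr : Commute D r := (hrX a).add_left (hrX a⁻¹)
    have hl : (D * n + D * r + Y a * (n * r) + Y a⁻¹ * (r * n)) * n = D * (r * n) + Y a * n := by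
      simp only [add_mul, mul_assoc, hnn, hnrn, mul_zero, zero_add, add_zero]
    have hr' : N (a * a) * (D * n + D * r + Y a * (n * r) + Y a⁻¹ * (r * n)) =
        (X (a * a) * D + Y (a * a) * Y a⁻¹) * n + X (a * a) * D * r + (X (a * a) * Y a + Y (a * a) * D) * (n * r) +
          X (a * a) * Y a⁻¹ * (r * n) := by
      calc _ = X (a * a) * D * n + X (a * a) * D * r + X (a * a) * Y a * (n * r) + X (a * a) * Y a⁻¹ * (r * n) +
            Y (a * a) * (n * D * n) + Y (a * a) * (n * D * r) + Y (a * a) * (n * Y a * (n * r)) +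
            Y (a * a) * (n * Y a⁻¹ * (r * n)) := by rw [hN (a * a)]; noncomm_ring
        _ = _ := by
          rw [← hDn.eq, ← (hnY a).eq, ← (hnY a⁻¹).eq]
          simp only [mul_assoc, hnn, hnrn, ← mul_assoc n n, zero_mul, mul_zero, add_zero, add_mul]
          abel
    rw [hl, hr'] at h
    have e : (0 : R) + (X (a * a) * D + Y (a * a) * Y a⁻¹ + Y a) * n + X (a * a) * D * r +
        (X (a * a) * Y a + Y (a * a) * D) * (n * r) + (X (a * a) * Y a⁻¹ + D) * (r * n) = 0 := by
      calc _ = (D * (r * n) + Y a * n) + ((X (a * a) * D + Y (a * a) * Y a⁻¹) * n + X (a * a) * D * r +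
            (X (a * a) * Y a + Y (a * a) * D) * (n * r) + X (a * a) * Y a⁻¹ * (r * n)) := by noncomm_ring
        _ = 0 := by rw [← h, h2]
    obtain ⟨e1, e2, -, e4⟩ := U.coords (Commute.zero_left _) (Commute.zero_left _)
      ((((hnX _).mul_left hDn).add_left ((hnY _).mul_left (hnY _))).add_left (hnY a))
      ((((hrX _).mul_left hDr).add_left ((hrY _).mul_left (hrY _))).add_left (hrY a))
      ((hnX _).mul_left hDn) ((hrX _).mul_left hDr)
      (((hnX _).mul_left (hnY a)).add_left ((hnY _).mul_left hDn))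
      (((hrX _).mul_left (hrY a)).add_left ((hrY _).mul_left hDr))
      (((hnX _).mul_left (hnY _)).add_left hDn) (((hrX _).mul_left (hrY _)).add_left hDr) e
    rw [e2, zero_add] at e1
    constructor
    · calc Y (a * a) = Y (a * a) * Y a⁻¹ * Y a := by rw [mul_assoc, y2, mul_one]
        _ = Y a * Y a := by rw [U.eq_of_add e1]
    · calc X (a * a) = X (a * a) * Y a⁻¹ * Y a := by rw [mul_assoc, y2, mul_one]
        _ = D * Y a := by rw [U.eq_of_add e4.symm]
  -- the deviation vanishes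
  have hXY' : ∀ a : K, a ≠ 0 → X a = Y a * X a⁻¹ := by
    intro c hc
    obtain ⟨a, rfl⟩ := sq_surj c
    have ha : a ≠ 0 := left_ne_zero_of_mul hc
    obtain ⟨y1, y2, y3⟩ := hpair a ha
    obtain ⟨f1, f2⟩ := hsquare a ha
    obtain ⟨-, g2⟩ := hsquare a⁻¹ (inv_ne_zero ha)
    rw [inv_inv, add_comm] at g2
    have hDY : Commute (Y a) (X a + X a⁻¹) := Commute.add_right ((hsq' a).2.symm) y3
    rw [mul_inv, g2, f1, f2]
    calc (X a + X a⁻¹) * Y a = Y a * (X a + X a⁻¹) * (Y a * Y a⁻¹) := by rw [y1, mul_one, hDY.eq]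
      _ = Y a * ((X a + X a⁻¹) * Y a) * Y a⁻¹ := by noncomm_ring
      _ = Y a * (Y a * (X a + X a⁻¹)) * Y a⁻¹ := by rw [hDY.eq]
      _ = Y a * Y a * ((X a + X a⁻¹) * Y a⁻¹) := by noncomm_ring
  have hX : ∀ c : K, X c = 0 := by
    have h0 : X 0 = 0 := by
      have h := (hsucc 1).1
      rwa [CharTwo.add_self_eq_zero, hX1] at h
    intro c
    by_cases hc0 : c = 0
    · rw [hc0, h0]
    by_cases hc1 : c = 1
    · rw [hc1, hX1]
    set a := c⁻¹ + 1 with ha'
    have hcinv : a + 1 = c⁻¹ := by rw [ha', add_assoc, CharTwo.add_self_eq_zero, add_zero]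
    have ha : a ≠ 0 := fun e => by
      rw [e, zero_add] at hcinv
      exact hc1 (inv_eq_one.1 hcinv.symm)
    have hb : a + 1 ≠ 0 := hcinv ▸ inv_ne_zero hc0
    obtain ⟨-, -, y3⟩ := hpair a ha
    obtain ⟨-, y2b, -⟩ := hpair (a + 1) hb
    obtain ⟨z1, -, -⟩ := hpair (a + 1) hb
    have h := (hsquare (a + 1) hb).2
    rw [show (a + 1) * (a + 1) = a * a + 1 by rw [CharTwo.add_mul_self, one_mul], (hsucc _).1, (hsucc a).1,
      (hsucc a).2, (hsquare a ha).2, show (a + 1)⁻¹ = c by rw [hcinv, inv_inv]] at h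
    have hZ : X c * Y (a + 1) = 0 := by
      rw [(hsucc a).2]
      refine U.eq_of_add (x := X c * (Y a + 1 + X a)) (y := 0) ?_ ▸ rfl
      rw [add_zero]
      have e : X c * (Y a + 1 + X a) = (X a + X c) * (Y a + 1 + X a) + (X a * Y a + X a + X a * X a) := by
        rw [show (X a + X c) * (Y a + 1 + X a) + (X a * Y a + X a + X a * X a) =
          X c * (Y a + 1 + X a) + ((X a * Y a + X a + X a * X a) + (X a * Y a + X a + X a * X a)) by noncomm_ring,
          h2, add_zero]
      rw [e, ← h, (hsq' a).1, add_zero, add_mul, ← y3, ← hXY' a ha]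
      exact h2 _
    calc X c = X c * Y (a + 1) * Y (a + 1)⁻¹ := by rw [mul_assoc, z1, mul_one]
      _ = 0 := by rw [hZ, zero_mul]
  -- the scalars
  have hYadd : ∀ a b, Y (a + b) = Y a + Y b := fun a b => by simp [(hXadd a b).2, hX]
  have hY0 : Y 0 = 0 := by
    have h := hYadd 0 0
    rw [add_zero] at h
    exact left_eq_add.1 h
  have hYsq : ∀ a, Y (a * a) = Y a * Y a := fun a => by
    by_cases ha : a = 0
    · simp [ha, hY0]
    · exact (hsquare a ha).1
  have hYc : ∀ a b, Y a * Y b = Y b * Y a := fun a b => by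
    refine U.eq_of_add ?_
    have h := hYsq (a + b)
    rw [CharTwo.add_mul_self, hYadd, hYadd, hYsq, hYsq] at h
    have e : Y a * Y a + Y b * Y b + (Y a * Y b + Y b * Y a) = Y a * Y a + Y b * Y b := by
      conv_rhs => rw [h]
      noncomm_ring
    exact left_eq_add.1 e.symm
  have hYmul : ∀ s d, Y (s * d) = Y s * Y d := by
    intro s d
    obtain ⟨a, rfl⟩ := sq_surj s
    by_cases ha : a = 0
    · simp [ha, hY0]
    by_cases hd : d = 0
    · simp [hd, hY0]
    set c := d⁻¹ with hc'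
    have hc : c ≠ 0 := inv_ne_zero hd
    rw [← inv_inv d, ← hc']
    by_cases hac : a + c = 0
    · rw [← CharTwo.add_eq_zero.1 hac, mul_assoc, mul_inv_cancel₀ ha, mul_one, hYsq, mul_assoc, (hpair a ha).1, mul_one]
    set e := a⁻¹ + (a + c)⁻¹ with he'
    have hee : e = c / (a * (a + c)) := by
      rw [he', eq_div_iff (mul_ne_zero ha hac)]
      field_simp
      rw [show a + c + a = c by rw [add_comm a c, add_assoc, CharTwo.add_self_eq_zero, add_zero]]
    have he : e ≠ 0 := by rw [hee]; exact div_ne_zero hc (mul_ne_zero ha hac)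
    have h1 : Y e * (Y a * Y (a + c) * Y c⁻¹) = 1 := by
      rw [he', hYadd a⁻¹]
      calc (Y a⁻¹ + Y (a + c)⁻¹) * (Y a * Y (a + c) * Y c⁻¹) =
            Y a⁻¹ * Y a * (Y (a + c) * Y c⁻¹) + Y (a + c)⁻¹ * (Y a * Y (a + c)) * Y c⁻¹ := by noncomm_ring
        _ = Y (a + c) * Y c⁻¹ + Y (a + c)⁻¹ * Y (a + c) * (Y a * Y c⁻¹) := by
          rw [(hpair a ha).2.1, one_mul, hYc a (a + c)]; noncomm_ring
        _ = Y (a + c + a) * Y c⁻¹ := by rw [(hpair _ hac).2.1, one_mul, hYadd (a + c) a, add_mul]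
        _ = 1 := by rw [add_comm a c, add_assoc, CharTwo.add_self_eq_zero, add_zero, (hpair c hc).1]
    have h3 : Y e⁻¹ = Y a * Y (a + c) * Y c⁻¹ := by
      rw [← mul_one (Y e⁻¹), ← h1, ← mul_assoc, (hpair e he).2.1, one_mul]
    rw [show e⁻¹ = a * a * c⁻¹ + a by rw [hee, inv_div]; field_simp, hYadd] at h3
    refine add_right_cancel (b := Y a) (h3.trans ?_)
    rw [hYadd, hYsq, mul_add, add_mul, mul_assoc (Y a) (Y c), (hpair c hc).1, mul_one]
  exact ⟨⟨⟨⟨Y, hY1⟩, hYmul⟩, hY0, hYadd⟩, fun a =>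
    ⟨hnY a, hrY a, by rw [hN a, hX, zero_add]; rfl⟩⟩

end Cfsg.Lib.HigmanFpf
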